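import Mathlib
import Cfsg.Agent.Lib.Helper44.FW.Defs

/-!
# Project FW (S3211): package [TRANS]
-/

set_option autoImplicit false

namespace Cfsg.Agent.Lib.Helper67.FW

open Cfsg.Agent.Lib.Helper44.FW

universe u v

theorem qA_sq_fw (F : Type v) [Field F] : (qA F) ^ 2 = negOne F := by
  rw [sq]
  apply Subtype.ext
  show (qA F).1 * (qA F).1 = (negOne F).1
  simp only [qA, negOne]
  ext i j
  fin_cases i <;> fin_cases j <;> simp [Matrix.mul_apply, Fin.sum_univ_two]

/-- [TRANS] -/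
theorem pkgTrans : PkgSL2U.{v} → PkgSL2SQ.{v} → PkgTrans.{u, v} := by
  intro hU hSQ G _ F _ _ hodd L ⟨e⟩ j hjL hj
  have h2 : (2 : F) ≠ 0 := by
    intro h
    have h1 : addOrderOf (1 : F) = 2 := by
      apply addOrderOf_eq_prime
      · rw [two_nsmul]
        have : (1 : F) + 1 = 2 := by norm_num
        rw [this, h]
      · exact one_ne_zero
    have h3 : 2 ∣ Fintype.card F := h1 ▸ addOrderOf_dvd_card
    exact (Nat.not_even_iff_odd.mpr hodd) (even_iff_two_dvd.mpr h3)
  have hj2 : j ^ 2 = 1 := by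
    rw [← hj]
    exact pow_orderOf_eq_one j
  have hj1 : j ≠ 1 := by
    intro h
    rw [h, orderOf_one] at hj
    norm_num at hj
  obtain ⟨jj, hjj⟩ : ∃ jj : ↥L, (jj : G) = j := ⟨⟨j, hjL⟩, rfl⟩
  have hjj2 : jj ^ 2 = 1 := Subtype.ext (by rw [Subgroup.coe_pow, hjj, hj2]; rfl)
  have hjj1 : jj ≠ 1 := by
    intro h
    apply hj1
    rw [← hjj, h]
    rfl
  have hej : e jj = negOne F := by
    have h1 : (e jj) ^ 2 = 1 := by rw [← map_pow, hjj2, map_one]
    rcases hU F h2 (e jj) h1 with h | h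
    · exact absurd ((MulEquiv.map_eq_one_iff e).mp h) hjj1
    · exact h
  refine ⟨?_, ?_, ?_⟩
  · intro x hx hx2
    have h1 : (e ⟨x, hx⟩) ^ 2 = 1 := by
      rw [← map_pow]
      have : (⟨x, hx⟩ : ↥L) ^ 2 = 1 := Subtype.ext (by rw [Subgroup.coe_pow]; exact hx2)
      rw [this, map_one]
    rcases hU F h2 (e ⟨x, hx⟩) h1 with h | h
    · left
      have := (MulEquiv.map_eq_one_iff e).mp h
      exact congrArg Subtype.val this
    · right
      rw [← hej] at h
      have := e.injective h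
      rw [← hjj, ← this]
  · refine ⟨(e.symm (qA F) : G), (e.symm (qA F)).2, ?_⟩
    have h1 : (e.symm (qA F)) ^ 2 = jj := by
      rw [← map_pow, qA_sq_fw, ← hej, MulEquiv.symm_apply_apply]
    rw [← hjj, ← h1, Subgroup.coe_pow]
  · intro x hx hx2 u hu u' hu' hu2 hu'2
    have hX : (e ⟨x, hx⟩) ^ 2 = negOne F := by
      rw [← map_pow, ← hej]
      congr 1
      exact Subtype.ext (by rw [Subgroup.coe_pow, hjj]; exact hx2)
    have hU2 : (e ⟨u, hu⟩) ^ 2 = e ⟨x, hx⟩ := by
      rw [← map_pow]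
      congr 1
      exact Subtype.ext (by rw [Subgroup.coe_pow]; exact hu2)
    have hU'2 : (e ⟨u', hu'⟩) ^ 2 = e ⟨x, hx⟩ := by
      rw [← map_pow]
      congr 1
      exact Subtype.ext (by rw [Subgroup.coe_pow]; exact hu'2)
    rcases hSQ F h2 (e ⟨x, hx⟩) (e ⟨u, hu⟩) (e ⟨u', hu'⟩) hX hU2 hU'2 with h | h
    · left
      exact congrArg Subtype.val (e.injective h)
    · right
      rw [← hej, ← map_mul] at h
      have := congrArg Subtype.val (e.injective h)
      rw [Subgroup.coe_mul, hjj] at this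
      exact this

end Cfsg.Agent.Lib.Helper67.FW
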